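import Cfsg.Agent.H968.Rat.Crit
import Cfsg.Agent.H893.Sd.MemIff

/-!
# Characters which are `fix - 2` on the `p`-regular elements (helper495, S4933)

* `sum_ne_zero` : `X` transitive on `Ω`, `p ∣ |Ω|`, `p` odd, `χ = fix - 2` on the `p`-regular elements: the sum of `χ` over
  the `p`-regular elements is not zero;
* `mem_principal` : then an irreducible `χ` lies in the principal `p`-block.
-/

set_option autoImplicit false

open Cfsg

namespace Cfsg.Agent.H495.HT

universe u v

section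

variable {X : Type u} [Group X] {Ω : Type v} [MulAction X Ω] {p : ℕ} [hp : Fact p.Prime]

open Cfsg.Agent.Blocks.Blau in
theorem sum_ne_zero [Fintype X] [Finite Ω] [MulAction.IsPretransitive X Ω] [Nonempty Ω] (hp2 : p ≠ 2)
    (hd : p ∣ Nat.card Ω) {χ : X → ℂ}
    (hχ : ∀ x : X, ¬ p ∣ orderOf x → χ x = (Nat.card (MulAction.fixedBy Ω x) : ℂ) - 2) :
    ∑ x : X, regPart p χ x ≠ 0 := by
  classical
  obtain ⟨r, hr⟩ := Cfsg.Agent.H968.Rat.sum_reg_fix (G := X) p (X := Ω)
  have h1 : ∀ x : X, regPart p χ x = regPart p (fun g : X => (Nat.card (MulAction.fixedBy Ω g) : ℂ)) x -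
      (if ¬ p ∣ orderOf x then 2 else 0) := by
    intro x
    by_cases h : p ∣ orderOf x
    · rw [regPart_of_dvd h, regPart_of_dvd h, if_neg (not_not.2 h), sub_zero]
    · rw [regPart_of_not_dvd h, regPart_of_not_dvd h, if_pos h, hχ x h]
  rw [Finset.sum_congr rfl fun x _ => h1 x, Finset.sum_sub_distrib, hr]
  have h2 : ∑ x : X, (if ¬ p ∣ orderOf x then (2 : ℂ) else 0) = ((2 * Nat.card {x : X // ¬ p ∣ orderOf x} : ℕ) : ℂ) := by
    rw [← Finset.sum_filter, Finset.sum_const, nsmul_eq_mul, Nat.card_eq_fintype_card, Fintype.card_subtype]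
    push_cast
    ring
  rw [h2]
  intro h3
  have h4 : Nat.card Ω * r = 2 * Nat.card {x : X // ¬ p ∣ orderOf x} := by exact_mod_cast sub_eq_zero.1 h3
  have h5 : p ∣ 2 * Nat.card {x : X // ¬ p ∣ orderOf x} := h4 ▸ Dvd.dvd.mul_right hd r
  rcases hp.out.dvd_mul.1 h5 with h6 | h6
  · exact hp2 ((Nat.prime_dvd_prime_iff_eq hp.out Nat.prime_two).1 h6)
  · exact Cfsg.Agent.Blocks.RegularCount.not_dvd_card_regular h6

/-- **The character is in the principal block.** -/
theorem mem_principal [Finite X] [Finite Ω] [MulAction.IsPretransitive X Ω] [Nonempty Ω] (hp2 : p ≠ 2)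
    (hd : p ∣ Nat.card Ω) {M : Ideal AlgInt} (hM : IsPModular p M) (χ : IrrCharacter X)
    (hχ : ∀ x : X, ¬ p ∣ orderOf x → (χ : X → ℂ) x = (Nat.card (MulAction.fixedBy Ω x) : ℂ) - 2) :
    χ ∈ principalBlock M X := by
  have : Fintype X := Fintype.ofFinite X
  exact (Cfsg.Agent.H893.Sd.mem_iff hM χ).2 (sum_ne_zero hp2 hd hχ)

end

end Cfsg.Agent.H495.HT
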